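import Groth.Agent.S7676
import Groth.Agent.ASBunKS.SecBase
import Groth.Agent.HodgePnLib.LineTriv

/-!
# Linear changes of coordinates through the universal property of projective space
-/

set_option autoImplicit false
set_option backward.isDefEq.respectTransparency false
set_option linter.style.haveILetI false

universe u

open CategoryTheory CategoryTheory.Limits AlgebraicGeometry TopologicalSpace Opposite
open Groth.Agent.ProjUPLib Groth.Agent.S7676

noncomputable section

namespace Groth.Agent.CanCurveLib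

variable {k : Type u} [Field k] {n : ℕ}

local notation "P" => CohB1.ProjSpace n k
local notation "T" => Twist.twistProjSpace n k 1
local notation "qP" => CohB1.ProjSpace.toSpec n k

theorem combine_combine {X : Scheme.{u}} (q : X ⟶ Spec (CommRingCat.of k)) {L : X.Modules}
    (u : Fin (n + 1) → ProjUP.Γm L) (A : Matrix (Fin (n + 1)) (Fin (n + 1)) k) (c : Fin (n + 1) → k) :
    combine q (fun i => combine q u (A i)) c = combine q u (Matrix.vecMul c A) := by
  show ∑ i, ProjUP.toGlobal q (c i) • ∑ j, ProjUP.toGlobal q (A i j) • u j =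
    ∑ j, ProjUP.toGlobal q (∑ i, c i * A i j) • u j
  simp only [Finset.smul_sum, smul_smul, map_sum, map_mul, Finset.sum_smul]
  exact Finset.sum_comm

theorem combine_one_row {X : Scheme.{u}} (q : X ⟶ Spec (CommRingCat.of k)) {L : X.Modules}
    (u : Fin (n + 1) → ProjUP.Γm L) (i : Fin (n + 1)) :
    combine q u ((1 : Matrix (Fin (n + 1)) (Fin (n + 1)) k) i) = u i := by
  rw [show (1 : Matrix (Fin (n + 1)) (Fin (n + 1)) k) i = Pi.single i 1 from
    funext fun j => by rw [Matrix.one_apply, Pi.single_apply]; simp [eq_comm], combine_single]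

/-- Sections whose combinations contain a generating family generate. -/
theorem generatedBy_of_combine {X : Scheme.{u}} (q : X ⟶ Spec (CommRingCat.of k)) {L : X.Modules}
    {u v : Fin (n + 1) → ProjUP.Γm L} (hu : ProjUP.GeneratedBy L u)
    (B : Matrix (Fin (n + 1)) (Fin (n + 1)) k) (hB : ∀ i, combine q v (B i) = u i) :
    ProjUP.GeneratedBy L v := fun x => by
  rw [eq_top_iff, ← hu x, Submodule.span_le]
  rintro _ ⟨i, rfl⟩
  show L.presheaf.germ ⊤ x trivial (u i) ∈ _
  rw [← hB i]
  show L.presheaf.germ ⊤ x trivial (∑ j, ProjUP.toGlobal q (B i j) • v j) ∈ _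
  rw [map_sum]
  refine Submodule.sum_mem _ fun j _ => ?_
  rw [ParaFLib.germ_smul']
  exact Submodule.smul_mem _ _ (Submodule.subset_span ⟨j, rfl⟩)

theorem generatedBy_coord : ProjUP.GeneratedBy T (ProjUP.coord n k) := by
  intro x
  have h := gen_coord n k (𝟙 P) x
  let a := ((Scheme.Modules.pullbackId P).app T)
  let l := PullbackMod.stalkLin a.hom x
  have hb : Function.Bijective l := (PullbackMod.isIso_iff_stalk a.hom).1 inferInstance x
  have h2 := congrArg (Submodule.map l) h
  rw [Submodule.map_top, LinearMap.range_eq_top.2 hb.2, Submodule.map_span] at h2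
  rw [eq_top_iff, ← h2]
  refine Submodule.span_mono ?_
  rintro _ ⟨_, ⟨i, rfl⟩, rfl⟩
  refine ⟨i, ?_⟩
  refine Eq.trans ?_ (PullbackMod.stalkLin_germ a.hom x (U := ⊤) trivial _).symm
  refine congrArg _ ?_
  have h3 := ConormalLib.pullbackId_inv_app (Z := P) T ⊤ (ProjUP.coord n k i)
  refine Eq.trans ?_ (congrArg (a.hom.app ⊤) h3)
  exact (congr($((Scheme.Modules.pullbackId P).inv_hom_id_app T).app ⊤ (ProjUP.coord n k i))).symm

/-- The inverse image of `O(1)` along a composite with a change of coordinates. -/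
theorem exists_compIso {X : Scheme.{u}} (r : X ⟶ P) (σ : P ⟶ P) (hσ : σ ≫ qP = qP)
    (τ : (Scheme.Modules.pullback σ).obj T ≅ T) (A : Matrix (Fin (n + 1)) (Fin (n + 1)) k)
    (hτ : ∀ i, τ.hom.app ⊤ (ProjUP.pullSec σ T (ProjUP.coord n k i)) = combine qP (ProjUP.coord n k) (A i)) :
    ∃ θ : (Scheme.Modules.pullback (r ≫ σ)).obj T ≅ (Scheme.Modules.pullback r).obj T,
      ∀ i, θ.hom.app ⊤ (ProjUP.pullSec (r ≫ σ) T (ProjUP.coord n k i)) =
        combine (r ≫ qP) (fun j => ProjUP.pullSec r T (ProjUP.coord n k j)) (A i) := by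
  refine ⟨(Scheme.Modules.pullbackComp r σ).symm.app T ≪≫ (Scheme.Modules.pullback r).mapIso τ, fun i => ?_⟩
  show ((Scheme.Modules.pullback r).map τ.hom).app ⊤
    (((Scheme.Modules.pullbackComp r σ).inv.app T).app ⊤ (ProjUP.pullSec (r ≫ σ) T (ProjUP.coord n k i))) = _
  rw [pullSec_comp_inv, pullSec_nat, hτ, pullSec_combine]

/-- The change of coordinates given by an invertible matrix. -/
theorem exists_aut {A B : Matrix (Fin (n + 1)) (Fin (n + 1)) k} (hAB : A * B = 1) (hBA : B * A = 1) :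
    ∃ σ : P ≅ P, σ.hom ≫ qP = qP ∧
      ∃ τ : (Scheme.Modules.pullback σ.hom).obj T ≅ T,
        ∀ i, τ.hom.app ⊤ (ProjUP.pullSec σ.hom T (ProjUP.coord n k i)) =
          combine qP (ProjUP.coord n k) (A i) := by
  have key : ∀ {C D : Matrix (Fin (n + 1)) (Fin (n + 1)) k}, D * C = 1 →
      ∃ (σ : P ⟶ P) (_ : σ ≫ qP = qP) (τ : (Scheme.Modules.pullback σ).obj T ≅ T),
        ∀ i, τ.hom.app ⊤ (ProjUP.pullSec σ T (ProjUP.coord n k i)) =
          combine qP (ProjUP.coord n k) (C i) := fun {C D} h => by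
    refine exists_hom_projSpace (n := n) qP (inv_twist n k) (fun i => combine qP (ProjUP.coord n k) (C i)) ?_
    refine generatedBy_of_combine qP generatedBy_coord D fun i => ?_
    rw [combine_combine, ← Matrix.mul_apply_eq_vecMul, h, combine_one_row]
  obtain ⟨σ, hσ, τ, hτ⟩ := key hBA
  obtain ⟨σ', hσ', τ', hτ'⟩ := key hAB
  have inv : ∀ (C D : Matrix (Fin (n + 1)) (Fin (n + 1)) k) (s t : P ⟶ P) (hs : s ≫ qP = qP) (ht : t ≫ qP = qP)
      (a : (Scheme.Modules.pullback s).obj T ≅ T) (b : (Scheme.Modules.pullback t).obj T ≅ T),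
      (∀ i, a.hom.app ⊤ (ProjUP.pullSec s T (ProjUP.coord n k i)) = combine qP (ProjUP.coord n k) (C i)) →
      (∀ i, b.hom.app ⊤ (ProjUP.pullSec t T (ProjUP.coord n k i)) = combine qP (ProjUP.coord n k) (D i)) →
      D * C = 1 → s ≫ t = 𝟙 P := by
    intro C D s t hs ht a b ha hb hDC
    obtain ⟨θ, hθ⟩ := exists_compIso s t ht b D hb
    refine hom_ext_projSpace (s ≫ t) (𝟙 P) (by rw [Category.assoc, ht, hs, Category.id_comp])
      (θ ≪≫ a ≪≫ (Scheme.Modules.pullbackId P).symm.app T) fun i => ?_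
    show ((Scheme.Modules.pullbackId P).inv.app T).app ⊤ (a.hom.app ⊤ (θ.hom.app ⊤
      (ProjUP.pullSec (s ≫ t) T (ProjUP.coord n k i)))) = _
    rw [hθ, app_combine, combine_congr hs ha, combine_combine, ← Matrix.mul_apply_eq_vecMul, hDC,
      combine_one_row]
    exact ConormalLib.pullbackId_inv_app T ⊤ _
  exact ⟨⟨σ, σ', inv A B σ σ' hσ hσ' τ τ' hτ hτ' hBA, inv B A σ' σ hσ' hσ τ' τ hτ' hτ hAB⟩, hσ, τ, hτ⟩

end Groth.Agent.CanCurveLib
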